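import Mathlib
import Cfsg.Agent.OddOrderLocal.PiCoreOf
import Cfsg.Agent.OddOrderLocal.FitCores
import Cfsg.Agent.Lib.CoprimeCommutator
import Cfsg.Agent.Lib.ThompsonPQ
import Cfsg.Agent.PermutationGroups.OddKlein
import Cfsg.Agent.SignalizersComponents.CoreOfCentralizer
set_option linter.all false

/-!
# Involutions acting on subgroups of odd order

Elementary facts used in the local analysis for the Gorenstein–Walter theorem (S0483).
-/

set_option autoImplicit false

namespace Cfsg.Agent.Classification.TypeB.Basic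

open Subgroup Cfsg

variable {G : Type*} [Group G]

/-- `w` is an involution. -/
def IsInv (w : G) : Prop := w * w = 1 ∧ w ≠ 1

theorem isInv_def (w : G) : IsInv w ↔ w * w = 1 ∧ w ≠ 1 := Iff.rfl

theorem IsInv.inv_eq {w : G} (h : IsInv w) : w⁻¹ = w := inv_eq_of_mul_eq_one_left h.1

theorem IsInv.orderOf_eq {w : G} (h : IsInv w) : orderOf w = 2 :=
  orderOf_eq_prime (by rw [pow_two]; exact h.1) h.2

theorem IsInv.conj {w : G} (h : IsInv w) (g : G) : IsInv (g * w * g⁻¹) := by
  refine ⟨?_, ?_⟩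
  · have h1 : g * w * g⁻¹ * (g * w * g⁻¹) = g * (w * w) * g⁻¹ := by group
    rw [h1, h.1]; group
  · intro h1
    apply h.2
    have h2 : w = g⁻¹ * (g * w * g⁻¹) * g := by group
    rw [h2, h1]; group

theorem IsInv.card_zpowers {w : G} (h : IsInv w) : Nat.card (zpowers w) = 2 := by
  rw [Nat.card_zpowers, h.orderOf_eq]

theorem IsInv.isPGroup [Finite G] {w : G} (h : IsInv w) : IsPGroup 2 (zpowers w) := by
  rw [IsPGroup.iff_card]
  exact ⟨1, by rw [h.card_zpowers, pow_one]⟩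

theorem IsInv.mul {t u : G} (ht : IsInv t) (hu : IsInv u) (htu : t * u = u * t) (hne : t ≠ u) :
    IsInv (t * u) := by
  refine ⟨?_, ?_⟩
  · rw [mul_assoc, ← mul_assoc u t u, ← htu, mul_assoc t u u, hu.1, mul_one, ht.1]
  · intro h
    apply hne
    rw [← mul_inv_eq_one, hu.inv_eq]
    exact h

theorem centralizer_zpowers (w : G) :
    centralizer (zpowers w : Set G) = centralizer ({w} : Set G) := by
  ext x
  rw [mem_centralizer_iff, mem_centralizer_singleton_iff]
  constructor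
  · intro h
    exact (h w (mem_zpowers w)).symm
  · rintro h y ⟨n, rfl⟩
    have h1 : Commute x w := h
    exact (h1.zpow_right n).symm

theorem mem_centralizer_iff' {w x : G} : x ∈ centralizer ({w} : Set G) ↔ x * w = w * x :=
  mem_centralizer_singleton_iff

theorem zpowers_le_centralizer_iff {w : G} {K : Subgroup G} :
    zpowers w ≤ centralizer (K : Set G) ↔ K ≤ centralizer ({w} : Set G) := by
  rw [zpowers_le, mem_centralizer_iff]
  constructor
  · intro h x hx
    exact mem_centralizer_iff'.mpr (h x hx)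
  · intro h x hx
    exact mem_centralizer_iff'.mp (h hx)

theorem conj_mem_of_mem_normalizer {K : Subgroup G} {g x : G} (hg : g ∈ normalizer (K : Set G))
    (hx : x ∈ K) : g * x * g⁻¹ ∈ K := (mem_normalizer_iff.mp hg x).mp hx

theorem mem_normalizer_of_conj [Finite G] {K : Subgroup G} {g : G}
    (h : ∀ x ∈ K, g * x * g⁻¹ ∈ K) : g ∈ normalizer (K : Set G) := by
  have hle : K.map (MulAut.conj g).toMonoidHom ≤ K := by
    rintro _ ⟨x, hx, rfl⟩
    exact h x hx
  have heq : K.map (MulAut.conj g).toMonoidHom = K := by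
    apply SetLike.coe_injective
    apply Set.eq_of_subset_of_ncard_le hle
    rw [coe_map, Set.ncard_image_of_injective]
    exact (MulAut.conj g).injective
  rw [mem_normalizer_iff]
  intro x
  refine ⟨h x, fun hx => ?_⟩
  rw [← heq] at hx
  obtain ⟨y, hy, hyx⟩ := hx
  have h1 : g * y * g⁻¹ = g * x * g⁻¹ := hyx
  have h2 : y = x := by simpa using h1
  exact h2 ▸ hy

/-- Two subgroups normalising each other and meeting trivially commute. -/
theorem le_centralizer_of_normalize {X Y : Subgroup G} (h1 : X ≤ normalizer (Y : Set G))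
    (h2 : Y ≤ normalizer (X : Set G)) (h : X ⊓ Y = ⊥) : X ≤ centralizer (Y : Set G) := by
  intro x hx
  rw [mem_centralizer_iff]
  intro y hy
  have h3 : x * y * x⁻¹ * y⁻¹ ∈ X ⊓ Y := by
    refine mem_inf.mpr ⟨?_, ?_⟩
    · have h4 : x * y * x⁻¹ * y⁻¹ = x * (y * x⁻¹ * y⁻¹) := by group
      rw [h4]
      exact X.mul_mem hx (conj_mem_of_mem_normalizer (h2 hy) (X.inv_mem hx))
    · exact Y.mul_mem (conj_mem_of_mem_normalizer (h1 hx) hy) (Y.inv_mem hy)
  rw [h, mem_bot] at h3
  have h4 : x * y = y * x := by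
    have h5 : x * y = (x * y * x⁻¹ * y⁻¹) * (y * x) := by group
    rw [h5, h3, one_mul]
  exact h4.symm

section odd

variable [Finite G]

set_option linter.unusedSectionVars false

theorem not_two_dvd {K : Subgroup G} (h : Odd (Nat.card K)) : ¬ 2 ∣ Nat.card K := by
  rw [← even_iff_two_dvd, Nat.not_even_iff_odd]
  exact h

theorem odd_of_le {K L : Subgroup G} (hKL : K ≤ L) (h : Odd (Nat.card L)) : Odd (Nat.card K) :=
  h.of_dvd_nat (card_dvd_of_le hKL)

theorem eq_one_of_sq {K : Subgroup G} (h : Odd (Nat.card K)) {x : G} (hx : x ∈ K)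
    (h2 : x * x = 1) : x = 1 := by
  by_contra hne
  have h3 : orderOf x = 2 := IsInv.orderOf_eq ⟨h2, hne⟩
  have h4 : orderOf x ∣ Nat.card K := by
    have h5 : orderOf (⟨x, hx⟩ : K) ∣ Nat.card K := orderOf_dvd_natCard _
    rwa [← Subgroup.orderOf_coe] at h5
  rw [h3] at h4
  exact not_two_dvd h h4

theorem eq_of_sq {K : Subgroup G} (h : Odd (Nat.card K)) {x y : G} (hx : x ∈ K) (hy : y ∈ K)
    (h2 : x * x = y * y) : x = y := by
  have := PermutationGroups.OddKlein.sqrt_unique (K := K) h (x := ⟨x, hx⟩) (y := ⟨y, hy⟩)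
    (Subtype.ext h2)
  exact congrArg Subtype.val this

theorem coprime_of_odd {K : Subgroup G} (h : Odd (Nat.card K)) {w : G} (hw : IsInv w) :
    (Nat.card (zpowers w)).Coprime (Nat.card K) := by
  rw [hw.card_zpowers]
  exact Nat.coprime_two_left.mpr h

/-- `[K, w, w] = [K, w]` -/
theorem comm_comm {K : Subgroup G} (h : Odd (Nat.card K)) {w : G} (hw : IsInv w)
    (hn : w ∈ normalizer (K : Set G)) : ⁅⁅K, zpowers w⁆, zpowers w⁆ = ⁅K, zpowers w⁆ :=
  Lib.CoprimeCommutator.commutator_commutator_eq _ _ (by rwa [zpowers_le]) (coprime_of_odd h hw)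

theorem comm_le {K : Subgroup G} {w : G} (hn : w ∈ normalizer (K : Set G)) :
    ⁅K, zpowers w⁆ ≤ K :=
  Lib.CoprimeCommutator.commutator_le_left (by rwa [zpowers_le])

/-- `K = [K, w] C_K(w)` -/
theorem le_of_split {K X : Subgroup G} (h : Odd (Nat.card K)) {w : G} (hw : IsInv w)
    (hn : w ∈ normalizer (K : Set G)) (h1 : ⁅K, zpowers w⁆ ≤ X)
    (h2 : K ⊓ centralizer ({w} : Set G) ≤ X) : K ≤ X := by
  intro k hk
  obtain ⟨m, hm, c, hc, rfl⟩ := Lib.CoprimeCommutator.exists_commutator_mul_fixed_of_isPGroup 2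
    (zpowers w) K hw.isPGroup (by rwa [zpowers_le]) (not_two_dvd h) k hk
  rw [centralizer_zpowers] at hc
  exact X.mul_mem (h1 hm) (h2 hc)

/-- `[K, w] = 1` if and only if `w` centralises `K`. -/
theorem comm_eq_bot_iff {K : Subgroup G} {w : G} :
    ⁅K, zpowers w⁆ = ⊥ ↔ K ≤ centralizer ({w} : Set G) := by
  rw [commutator_eq_bot_iff_le_centralizer, centralizer_zpowers]

/-- Action of a four-group: `K = ⟨C_K(t), C_K(u), C_K(tu)⟩`. -/
theorem le_of_four {K X : Subgroup G} (h : Odd (Nat.card K)) {t u : G} (ht : IsInv t)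
    (hu : IsInv u) (htu : t * u = u * t) (htn : t ∈ normalizer (K : Set G))
    (hun : u ∈ normalizer (K : Set G))
    (h1 : K ⊓ centralizer ({t} : Set G) ≤ X) (h2 : K ⊓ centralizer ({u} : Set G) ≤ X)
    (h3 : K ⊓ centralizer ({t * u} : Set G) ≤ X) : K ≤ X := by
  let σ : K →* K := (K.normalizerMonoidHom ⟨t, htn⟩).toMonoidHom
  let τ : K →* K := (K.normalizerMonoidHom ⟨u, hun⟩).toMonoidHom
  have hσ : ∀ x : K, ((σ x : K) : G) = t * x * t⁻¹ := fun x => rfl
  have hτ : ∀ x : K, ((τ x : K) : G) = u * x * u⁻¹ := fun x => rfl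
  have htop := PermutationGroups.OddKlein.eq_top_of_fixed_le h σ τ
    (fun x => Subtype.ext (by
      rw [hσ, hσ, ht.inv_eq, ← mul_assoc, ← mul_assoc, ht.1, one_mul, mul_assoc, ht.1, mul_one]))
    (fun x => Subtype.ext (by
      rw [hτ, hτ, hu.inv_eq, ← mul_assoc, ← mul_assoc, hu.1, one_mul, mul_assoc, hu.1, mul_one]))
    (fun x => Subtype.ext (by
      rw [hσ, hτ, hτ, hσ, ht.inv_eq, hu.inv_eq]
      have h4 : t * (u * x * u) * t = (t * u) * x * (u * t) := by group
      have h5 : u * (t * x * t) * u = (u * t) * x * (t * u) := by group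
      rw [h4, h5, htu]))
    (X.subgroupOf K) ?_ ?_ ?_
  · rw [subgroupOf_eq_top] at htop
    exact htop
  · intro x hx
    rw [mem_subgroupOf]
    refine h1 (mem_inf.mpr ⟨x.2, mem_centralizer_iff'.mpr ?_⟩)
    have h4 := congrArg Subtype.val hx
    rw [hσ, mul_inv_eq_iff_eq_mul] at h4
    exact h4.symm
  · intro x hx
    rw [mem_subgroupOf]
    refine h2 (mem_inf.mpr ⟨x.2, mem_centralizer_iff'.mpr ?_⟩)
    have h4 := congrArg Subtype.val hx
    rw [hτ, mul_inv_eq_iff_eq_mul] at h4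
    exact h4.symm
  · intro x hx
    rw [mem_subgroupOf]
    refine h3 (mem_inf.mpr ⟨x.2, mem_centralizer_iff'.mpr ?_⟩)
    have h4 := congrArg Subtype.val hx
    rw [hσ, hτ] at h4
    have h5 : t * (u * (x : G) * u⁻¹) * t⁻¹ = (t * u) * x * (t * u)⁻¹ := by group
    rw [h5, mul_inv_eq_iff_eq_mul] at h4
    exact h4.symm

/-- An involution acting without nontrivial fixed points on a group of odd order inverts it. -/
theorem inverts_of_fixedPointFree {K : Subgroup G} {w : G} (hw : IsInv w)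
    (hn : w ∈ normalizer (K : Set G)) (hf : K ⊓ centralizer ({w} : Set G) = ⊥) {x : G}
    (hx : x ∈ K) : w * x * w⁻¹ = x⁻¹ := by
  let σ : K →* K := (K.normalizerMonoidHom ⟨w, hn⟩).toMonoidHom
  have hσ : ∀ x : K, ((σ x : K) : G) = w * x * w⁻¹ := fun x => rfl
  have hσ2 : ∀ x : K, σ (σ x) = x := fun x => Subtype.ext (by
    rw [hσ, hσ, hw.inv_eq, ← mul_assoc, ← mul_assoc, hw.1, one_mul, mul_assoc, hw.1, mul_one])
  have hinj : Function.Injective (fun y : K => y⁻¹ * σ y) := by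
    intro y z hyz
    have h1 : y⁻¹ * σ y = z⁻¹ * σ z := hyz
    have h2 : σ (y * z⁻¹) = y * z⁻¹ := by
      rw [map_mul, map_inv]
      have h3 : σ y = y * z⁻¹ * σ z := by rw [mul_assoc, ← h1]; group
      rw [h3]; group
    have h3 : ((y * z⁻¹ : K) : G) ∈ K ⊓ centralizer ({w} : Set G) := by
      refine mem_inf.mpr ⟨(y * z⁻¹).2, mem_centralizer_iff'.mpr ?_⟩
      have h4 := congrArg Subtype.val h2
      rw [hσ, mul_inv_eq_iff_eq_mul] at h4
      exact h4.symm
    rw [hf, mem_bot] at h3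
    have h4 : y * z⁻¹ = 1 := Subtype.ext h3
    exact mul_inv_eq_one.mp h4
  obtain ⟨y, hy⟩ := (Finite.injective_iff_surjective.mp hinj) ⟨x, hx⟩
  have hy' : y⁻¹ * σ y = ⟨x, hx⟩ := hy
  have h1 : σ ⟨x, hx⟩ = (⟨x, hx⟩ : K)⁻¹ := by
    rw [← hy', map_mul, map_inv, hσ2]; group
  exact congrArg Subtype.val h1

end odd

/-- If `H = [H, K]` with coprime orders, then `C_H(K) ≤ H'`. -/
theorem inf_centralizer_le [Finite G] (H K : Subgroup G)
    (hn : K ≤ normalizer (H : Set G)) (hcop : (Nat.card H).Coprime (Nat.card K))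
    (hle : H ≤ ⁅H, K⁆) : H ⊓ centralizer (K : Set G) ≤ ⁅H, H⁆ := by
  classical
  let _ : Fintype K := Fintype.ofFinite K
  let act : K → (H →* H) := fun k => (H.normalizerMonoidHom ⟨k, hn k.2⟩).toMonoidHom
  have hact : ∀ (k : K) (x : H), ((act k x : H) : G) = k * x * (k : G)⁻¹ := fun k x => rfl
  let ν : H →* Abelianization H := ∏ k : K, (Abelianization.of).comp (act k)
  have hν : ∀ x : H, ν x = ∏ k : K, Abelianization.of (act k x) := by
    intro x
    simp [ν, MonoidHom.finsetProd_apply]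
  have hmul : ∀ (k l : K) (x : H), act k (act l x) = act (k * l) x := by
    intro k l x
    apply Subtype.ext
    rw [hact, hact, hact]
    push_cast
    group
  have hinv : ∀ (x : H) (k₀ : K), ν (act k₀ x) = ν x := by
    intro x k₀
    rw [hν, hν]
    apply Fintype.prod_equiv (Equiv.mulRight k₀) _ (fun k : K => Abelianization.of (act k x))
    intro k
    simp [hmul]
  have hker : ⁅H, K⁆ ≤ ν.ker.map H.subtype := by
    rw [commutator_le]
    intro h hh k hk
    refine ⟨⟨h, hh⟩ * (act ⟨k, hk⟩ ⟨h, hh⟩)⁻¹, ?_, ?_⟩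
    · change ν _ = 1
      rw [map_mul, map_inv, hinv _ ⟨k, hk⟩, mul_inv_cancel]
    · simp [commutatorElement_def, hact, mul_assoc]
  have hν1 : ∀ x : H, ν x = 1 := by
    intro x
    have hx : (x : G) ∈ ⁅H, K⁆ := hle x.2
    obtain ⟨y, hy, hyx⟩ := hker hx
    have : y = x := Subtype.ext hyx
    rw [← this]; exact hy
  rintro c ⟨hcH, hcC⟩
  have h1 : ν ⟨c, hcH⟩ = Abelianization.of ⟨c, hcH⟩ ^ (Nat.card K) := by
    rw [hν, Nat.card_eq_fintype_card, ← Finset.card_univ, ← Finset.prod_const]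
    apply Finset.prod_congr rfl
    intro k _
    congr 1
    apply Subtype.ext
    rw [hact]
    have := mem_centralizer_iff.mp hcC k k.2
    simp [this]
  rw [hν1] at h1
  have h2 : Abelianization.of (⟨c, hcH⟩ : H) = 1 := by
    have h3 : Abelianization.of (⟨c, hcH⟩ : H) ^ (Nat.card H) = 1 := by
      rw [← map_pow, pow_card_eq_one', map_one]
    have h4 := Nat.Coprime.eq_one_of_dvd
      (Nat.Coprime.coprime_dvd_left (orderOf_dvd_of_pow_eq_one h3) hcop)
      (orderOf_dvd_of_pow_eq_one h1.symm)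
    exact orderOf_eq_one_iff.mp h4
  have h3 : (⟨c, hcH⟩ : H) ∈ commutator H :=
    (QuotientGroup.eq_one_iff (N := commutator H) (⟨c, hcH⟩ : H)).mp h2
  rw [← Subgroup.map_subtype_commutator]
  exact ⟨⟨c, hcH⟩, h3, rfl⟩

/-- `(T)`: `t` acts on the group `Y` of odd order and on `E = [E, t]`, of order prime to `|Y|`; if `E` centralises
`C_Y(t)`, then `E` centralises `Y`. -/
theorem le_centralizer_of_fixed [Finite G] {Y E : Subgroup G} (hYo : Odd (Nat.card Y))
    (hYs : Group.IsSolvable Y) {t : G} (ht : IsInv t) (htY : t ∈ normalizer (Y : Set G))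
    (hEY : E ≤ normalizer (Y : Set G)) (hcop : (Nat.card E).Coprime (Nat.card Y))
    (hE : E ≤ ⁅E, zpowers t⁆)
    (hfix : E ≤ centralizer ((Y ⊓ centralizer ({t} : Set G) : Subgroup G) : Set G))
    (htE : t ∈ normalizer (E : Set G)) :
    E ≤ centralizer (Y : Set G) := by
  set Y₁ : Subgroup G := ⁅Y, E⁆ with hY₁
  have hY₁Y : Y₁ ≤ Y := Lib.CoprimeCommutator.commutator_le_left hEY
  have hEY₁ : E ≤ normalizer (Y₁ : Set G) := Lib.CoprimeCommutator.right_le_normalizer_commutator _ _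
  have hcop₁ : (Nat.card Y₁).Coprime (Nat.card E) :=
    (Nat.Coprime.coprime_dvd_right (card_dvd_of_le hY₁Y) hcop).symm
  have hY₁c : ⁅Y₁, E⁆ = Y₁ := Lib.CoprimeCommutator.commutator_commutator_eq _ _ hEY hcop
  have htY₁ : t ∈ normalizer (Y₁ : Set G) := by
    apply mem_normalizer_of_conj
    intro x hx
    have h1 : Y₁ ≤ Y₁.comap (MulAut.conj t).toMonoidHom := by
      rw [hY₁, commutator_le]
      intro a ha b hb
      rw [mem_comap, map_commutatorElement]
      exact commutator_mem_commutator (conj_mem_of_mem_normalizer htY ha)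
        (conj_mem_of_mem_normalizer htE hb)
    exact h1 hx
  have hYo₁ : Odd (Nat.card Y₁) := odd_of_le hY₁Y hYo
  set D : Subgroup G := ⁅Y₁, Y₁⁆ with hD
  have hDn : ∀ g ∈ normalizer (Y₁ : Set G), g ∈ normalizer (D : Set G) := by
    intro g hg
    apply mem_normalizer_of_conj
    intro x hx
    have h1 : D ≤ D.comap (MulAut.conj g).toMonoidHom := by
      rw [hD, commutator_le]
      intro a ha b hb
      rw [mem_comap, map_commutatorElement]
      exact commutator_mem_commutator (conj_mem_of_mem_normalizer hg ha)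
        (conj_mem_of_mem_normalizer hg hb)
    exact h1 hx
  have hDY₁ : D ≤ Y₁ := by
    rw [hD, commutator_le]
    intro a ha b hb
    rw [commutatorElement_def]
    exact Y₁.mul_mem (Y₁.mul_mem (Y₁.mul_mem ha hb) (Y₁.inv_mem ha)) (Y₁.inv_mem hb)
  have hcomm : ∀ a ∈ Y₁, ∀ b ∈ Y₁, a * b * a⁻¹ * b⁻¹ ∈ D := fun a ha b hb =>
    commutator_mem_commutator ha hb
  -- `t` inverts `Y₁ / D`
  have key : ∀ s : G, IsInv s → s ∈ normalizer (Y₁ : Set G) →
      E ≤ centralizer ((Y ⊓ centralizer ({s} : Set G) : Subgroup G) : Set G) →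
      ∀ y ∈ Y₁, y * (s * y * s⁻¹) ∈ D := by
    intro s hs hsY₁ hsE y hy
    have hsy : s * y * s⁻¹ ∈ Y₁ := conj_mem_of_mem_normalizer hsY₁ hy
    obtain ⟨c, hc, hkc⟩ := Lib.CoprimeCommutator.exists_fixed_in_coset 2 (zpowers s) D hs.isPGroup
      (by rw [zpowers_le]; exact hDn s hsY₁) (not_two_dvd (odd_of_le hDY₁ hYo₁))
      (y * (s * y * s⁻¹)) (by
        intro a ha
        have ha' : a = 1 ∨ a = s := by
          obtain ⟨n, rfl⟩ := ha
          rcases Int.even_or_odd n with ⟨k, rfl⟩ | ⟨k, rfl⟩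
          · left
            have h5 : s ^ (k + k) = (s * s) ^ k := by
              rw [zpow_add, (Commute.refl s).mul_zpow]
            change s ^ (k + k) = 1
            rw [h5, hs.1, one_zpow]
          · right
            have h5 : s ^ (2 * k + 1) = (s * s) ^ k * s := by
              rw [zpow_add, zpow_mul, zpow_one, zpow_two]
            change s ^ (2 * k + 1) = s
            rw [h5, hs.1, one_zpow, one_mul]
        rcases ha' with rfl | rfl
        · have h5 : (y * (s * y * s⁻¹))⁻¹ * (1 * (y * (s * y * s⁻¹)) * 1⁻¹) = 1 := by group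
          rw [h5]; exact D.one_mem
        · have h5 : (y * (a * y * a⁻¹))⁻¹ * (a * (y * (a * y * a⁻¹)) * a⁻¹) =
              (a * y * a⁻¹)⁻¹ * y⁻¹ * ((a * y * a⁻¹)⁻¹)⁻¹ * (y⁻¹)⁻¹ := by
            have h6 : a * (a * y * a⁻¹) * a⁻¹ = y := by
              rw [hs.inv_eq, ← mul_assoc, ← mul_assoc, hs.1, one_mul, mul_assoc, hs.1, mul_one]
            have h7 : a * (y * (a * y * a⁻¹)) * a⁻¹ = (a * y * a⁻¹) * (a * (a * y * a⁻¹) * a⁻¹) := by
              group
            rw [h7, h6]; group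
          rw [h5]
          exact hcomm _ (Y₁.inv_mem hsy) _ (Y₁.inv_mem hy))
    rw [centralizer_zpowers] at hc
    have hcY₁ : c ∈ Y₁ := by
      have h5 : c = (y * (s * y * s⁻¹)) * ((y * (s * y * s⁻¹))⁻¹ * c) := by group
      rw [h5]
      exact Y₁.mul_mem (Y₁.mul_mem hy hsy) (hDY₁ hkc)
    have hcE : c ∈ centralizer (E : Set G) := by
      rw [mem_centralizer_iff]
      intro e he
      exact ((mem_centralizer_iff.mp (hsE he)) c (mem_inf.mpr ⟨hY₁Y hcY₁, hc⟩)).symm
    have hcD : c ∈ D := inf_centralizer_le Y₁ E hEY₁ hcop₁ hY₁c.ge (mem_inf.mpr ⟨hcY₁, hcE⟩)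
    have h5 : y * (s * y * s⁻¹) = c * ((y * (s * y * s⁻¹))⁻¹ * c)⁻¹ := by group
    rw [h5]
    exact D.mul_mem hcD (D.inv_mem hkc)
  -- `[Y₁, E] ≤ D`
  have hle : E ≤ (normalizer (Y₁ : Set G)) := hEY₁
  let Z : Subgroup G :=
    { carrier := {e | e ∈ normalizer (Y₁ : Set G) ∧ ∀ y ∈ Y₁, (e * y * e⁻¹) * y⁻¹ ∈ D}
      mul_mem' := by
        rintro a b ⟨ha, ha'⟩ ⟨hb, hb'⟩
        refine ⟨mul_mem ha hb, fun y hy => ?_⟩
        have h5 : a * b * y * (a * b)⁻¹ * y⁻¹ =
            (a * (b * y * b⁻¹) * a⁻¹ * (b * y * b⁻¹)⁻¹) * (b * y * b⁻¹ * y⁻¹) := by group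
        rw [h5]
        exact D.mul_mem (ha' _ (conj_mem_of_mem_normalizer hb hy)) (hb' y hy)
      one_mem' := ⟨one_mem _, fun y hy => by simp⟩
      inv_mem' := by
        rintro a ⟨ha, ha'⟩
        refine ⟨inv_mem ha, fun y hy => ?_⟩
        have h6 : a⁻¹ * y * a⁻¹⁻¹ ∈ Y₁ := conj_mem_of_mem_normalizer (inv_mem ha) hy
        have h7 := D.inv_mem (ha' _ h6)
        have h8 : (a * (a⁻¹ * y * a⁻¹⁻¹) * a⁻¹ * (a⁻¹ * y * a⁻¹⁻¹)⁻¹)⁻¹ =
          (a⁻¹ * y * a⁻¹⁻¹) * y⁻¹ := by group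
        rwa [h8] at h7 }
  have hEZ : E ≤ Z := by
    refine hE.trans ?_
    rw [commutator_le]
    intro e he a ha
    have ha' : a ∈ normalizer (E : Set G) := (zpowers_le.mpr htE) ha
    -- `a = 1` or `a = t`
    have ha2 : a = 1 ∨ a = t := by
      obtain ⟨n, rfl⟩ := ha
      rcases Int.even_or_odd n with ⟨k, rfl⟩ | ⟨k, rfl⟩
      · left
        have h5 : t ^ (k + k) = (t * t) ^ k := by
          rw [zpow_add, (Commute.refl t).mul_zpow]
        change t ^ (k + k) = 1
        rw [h5, ht.1, one_zpow]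
      · right
        have h5 : t ^ (2 * k + 1) = (t * t) ^ k * t := by
          rw [zpow_add, zpow_mul, zpow_one, zpow_two]
        change t ^ (2 * k + 1) = t
        rw [h5, ht.1, one_zpow, one_mul]
    rcases ha2 with rfl | rfl
    · rw [commutatorElement_one_right]; exact Z.one_mem
    · -- `s = e a e⁻¹`
      set s : G := e * a * e⁻¹ with hs
      have hsI : IsInv s := ht.conj e
      have hsY₁ : s ∈ normalizer (Y₁ : Set G) :=
        mul_mem (mul_mem (hEY₁ he) htY₁) (inv_mem (hEY₁ he))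
      have hsE : E ≤ centralizer ((Y ⊓ centralizer ({s} : Set G) : Subgroup G) : Set G) := by
        intro f hf
        rw [mem_centralizer_iff]
        rintro c ⟨hcY, hcs⟩
        -- `e⁻¹ c e ∈ C_Y(a)`, centralised by `E`, so `= c`
        have h5 : e⁻¹ * c * e ∈ Y := by
          have := conj_mem_of_mem_normalizer (inv_mem (hEY he)) hcY
          simpa using this
        have h6 : e⁻¹ * c * e ∈ centralizer ({a} : Set G) := by
          rw [mem_centralizer_iff']
          have h7 : c * s = s * c := mem_centralizer_iff'.mp hcs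
          rw [hs] at h7
          have h8 : e⁻¹ * c * e * a = e⁻¹ * (c * (e * a * e⁻¹)) * e := by group
          rw [h8, h7]; group
        have h7 := mem_centralizer_iff.mp (hfix he) (e⁻¹ * c * e) (mem_inf.mpr ⟨h5, h6⟩)
        have h8 : e⁻¹ * c * e = c := by
          have h9 : e⁻¹ * c * e = e * (e⁻¹ * c * e) * e⁻¹ := by rw [← h7]; group
          rw [h9]; group
        rw [h8] at h6
        exact mem_centralizer_iff.mp (hfix hf) c (mem_inf.mpr ⟨hcY, h6⟩)
      rw [commutatorElement_def]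
      have h5 : e * a * e⁻¹ * a⁻¹ = s * a := by rw [hs, ht.inv_eq]
      rw [h5]
      refine ⟨mul_mem hsY₁ htY₁, fun y hy => ?_⟩
      have h6 : a * y * a⁻¹ ∈ Y₁ := conj_mem_of_mem_normalizer htY₁ hy
      have h7 := key a ht htY₁ hfix y hy
      have h8 := key s hsI hsY₁ hsE (a * y * a⁻¹) h6
      -- `(sa) y (sa)⁻¹ y⁻¹ = (a y a⁻¹)⁻¹ ((a y a⁻¹) (s (a y a⁻¹) s⁻¹)) (a y a⁻¹) ((a y a⁻¹)⁻¹ y⁻¹)`
      have h9 : s * a * y * (s * a)⁻¹ * y⁻¹ =
          ((a * y * a⁻¹)⁻¹ * ((a * y * a⁻¹) * (s * (a * y * a⁻¹) * s⁻¹)) * ((a * y * a⁻¹)⁻¹)⁻¹) *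
            (y * (a * y * a⁻¹))⁻¹ := by group
      rw [h9]
      refine D.mul_mem ?_ (D.inv_mem h7)
      exact conj_mem_of_mem_normalizer (hDn _ (le_normalizer (Y₁.inv_mem h6))) h8
  have hfin : Y₁ ≤ D := by
    rw [← hY₁c, commutator_le]
    intro y hy e he
    rw [commutatorElement_def]
    have h5 := (hEZ he).2 _ (Y₁.inv_mem hy)
    have h6 : y * e * y⁻¹ * e⁻¹ = y * (e * y⁻¹ * e⁻¹ * y⁻¹⁻¹) * y⁻¹ := by group
    rw [h6]
    exact conj_mem_of_mem_normalizer (hDn _ (le_normalizer hy)) h5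
  have hbot : Y₁ = ⊥ := by
    by_contra hne
    have hs1 : Group.IsSolvable Y₁ := Group.isSolvable_of_isSolvable_injective
      (f := inclusion hY₁Y) (inclusion_injective hY₁Y)
    have hnt : Nontrivial Y₁ := (nontrivial_iff_ne_bot Y₁).mpr hne
    have h5 : commutator Y₁ < ⊤ := Group.IsSolvable.commutator_lt_top_of_nontrivial Y₁
    apply h5.ne
    rw [eq_top_iff]
    intro x _
    have h6 : (x : G) ∈ D := hfin x.2
    rw [hD, ← Subgroup.map_subtype_commutator] at h6
    obtain ⟨y, hy, hyx⟩ := h6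
    have : y = x := Subtype.ext hyx
    exact this ▸ hy
  rw [← commutator_eq_bot_iff_le_centralizer, commutator_comm]
  exact hbot

end Cfsg.Agent.Classification.TypeB.Basic
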